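import Mathlib
import Cfsg.Agent.Helper58.Marggraf

/-!
# Marggraf's theorem (S3620): definitions shared by the pieces (helper60)

* `TA 𝒯 A`      : the members of the family `𝒯` that are disjoint from `A`
* `Eqv 𝒯 A x y` : `x`, `y` are not separated by the members of `𝒯` disjoint from `A`
* `CoreHyp`     : hypotheses of the combinatorial core (no group in sight)
* `StSys`       : a Steiner system `S(t, t - 1 + e, |Ω|)` given by its closure operator `Q` on `t`-sets,
                  with a subsystem `Δ` whose complement is "closed" as well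
* `Small2`, `Small3` : `g` acts as a transposition / as a 3-cycle (instance-free forms)
* `translates G Γ`   : the family `{g⁻¹ Γ}` as a `Finset (Finset Ω)`
-/

set_option autoImplicit false

namespace Cfsg.Agent.Helper60.Marg

open MulAction

section comb

variable {Ω : Type*} [DecidableEq Ω]

/-- the members of `𝒯` disjoint from `A` -/
def TA (𝒯 : Finset (Finset Ω)) (A : Finset Ω) : Finset (Finset Ω) :=
  𝒯.filter (fun T => Disjoint T A)

/-- `x` and `y` are not separated by the members of `𝒯` that are disjoint from `A` -/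
def Eqv (𝒯 : Finset (Finset Ω)) (A : Finset Ω) (x y : Ω) : Prop :=
  ∀ T ∈ TA 𝒯 A, (x ∈ T ↔ y ∈ T)

/-- hypotheses of the combinatorial core -/
structure CoreHyp [Fintype Ω] (𝒯 : Finset (Finset Ω)) (m t e : ℕ) : Prop where
  card_univ : Fintype.card Ω = 2 * m + 1
  ht4 : 4 ≤ t
  htm : t < m
  he : 2 ≤ e
  card_mem : ∀ T ∈ 𝒯, T.card = m
  one : ∀ A : Finset Ω, A.card + 2 = t → ∀ x x' : Ω, x ∉ A → x' ∉ A →
    ((TA 𝒯 A).filter (fun T => x ∈ T)).card = ((TA 𝒯 A).filter (fun T => x' ∈ T)).card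
  two : ∀ A : Finset Ω, A.card + 2 = t → ∀ x y x' y' : Ω, x ∉ A → y ∉ A → x' ∉ A → y' ∉ A →
    x ≠ y → x' ≠ y' →
    ((TA 𝒯 A).filter (fun T => x ∈ T ∧ y ∈ T)).card =
      ((TA 𝒯 A).filter (fun T => x' ∈ T ∧ y' ∈ T)).card
  cover : ∀ A : Finset Ω, A.card + 1 = t → ∀ x : Ω, x ∉ A → ∃ T ∈ TA 𝒯 A, x ∈ T
  cls : ∀ A : Finset Ω, A.card + 1 = t → ∀ x : Ω, x ∉ A →
    {y : Ω | y ∉ A ∧ Eqv 𝒯 A x y}.ncard = e

/-- a Steiner system `S(t, t - 1 + e, |Ω|)` (closure operator `Q` on `t`-sets) in which `Δ` is a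
subsystem and the blocks meeting `Δ` in exactly `t - 1` points have the rest outside `Δ` -/
structure StSys (Ω : Type*) [DecidableEq Ω] (t e : ℕ) (Δ : Finset Ω) where
  Q : Finset Ω → Finset Ω
  sub : ∀ X : Finset Ω, X.card = t → X ⊆ Q X
  card : ∀ X : Finset Ω, X.card = t → (Q X).card + 1 = t + e
  eq : ∀ X X' : Finset Ω, X.card = t → X'.card = t → X' ⊆ Q X → Q X' = Q X
  inΔ : ∀ X : Finset Ω, X.card = t → X ⊆ Δ → Q X ⊆ Δ
  inΓ : ∀ X : Finset Ω, X.card = t → (X ∩ Δ).card + 1 = t → Disjoint (Q X \ X) Δ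

/-- the blocks of the Steiner system -/
def StSys.blocks [Fintype Ω] {t e : ℕ} {Δ : Finset Ω} (S : StSys Ω t e Δ) : Finset (Finset Ω) :=
  (Finset.univ.powersetCard t).image S.Q

/-- the number of blocks meeting `Δ` in exactly `j` points -/
def StSys.B [Fintype Ω] {t e : ℕ} {Δ : Finset Ω} (S : StSys Ω t e Δ) (j : ℕ) : ℕ :=
  (S.blocks.filter (fun Q => (Q ∩ Δ).card = j)).card

end comb

section grp

variable {G : Type*} [Group G]

/-- `g` acts on `Ω` as a transposition -/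
def Small2 (Ω : Type*) [MulAction G Ω] (g : G) : Prop :=
  ∃ a b : Ω, a ≠ b ∧ g • a = b ∧ g • b = a ∧ ∀ z : Ω, z ≠ a → z ≠ b → g • z = z

/-- `g` acts on `Ω` as a 3-cycle -/
def Small3 (Ω : Type*) [MulAction G Ω] (g : G) : Prop :=
  ∃ a b c : Ω, a ≠ b ∧ b ≠ c ∧ a ≠ c ∧ g • a = b ∧ g • b = c ∧ g • c = a ∧
    ∀ z : Ω, z ≠ a → z ≠ b → z ≠ c → g • z = z

/-- the translates `g⁻¹ Γ` of `Γ`, as finsets -/
noncomputable def translates (G : Type*) [Group G] {Ω : Type*} [MulAction G Ω] [Fintype Ω]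
    (Γ : Set Ω) : Finset (Finset Ω) := by
  classical
  exact Finset.univ.filter (fun T : Finset Ω => ∃ g : G, (T : Set Ω) = {z | g • z ∈ Γ})

theorem mem_translates {G : Type*} [Group G] {Ω : Type*} [MulAction G Ω] [Fintype Ω]
    (Γ : Set Ω) (T : Finset Ω) :
    T ∈ translates G Γ ↔ ∃ g : G, (T : Set Ω) = {z | g • z ∈ Γ} := by
  classical
  simp [translates]

end grp

end Cfsg.Agent.Helper60.Marg
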