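import Mathlib
import Cfsg.Agent.Helper58.Marggraf
import Cfsg.Agent.Helper60.Marg.Defs
import Cfsg.Agent.Helper25.Marg.CSt
import Cfsg.Agent.Helper25.Marg.M6c
import Cfsg.Agent.Helper33.Marg.CPar
import Cfsg.Agent.Helper33.Marg.CS
import Cfsg.Agent.Helper33.Marg.M3
import Cfsg.Agent.Helper37.Marg.CA
import Cfsg.Agent.Helper37.Marg.CBin
import Cfsg.Agent.Helper37.Marg.CDC1
import Cfsg.Agent.Helper47.Marg.B01
import Cfsg.Agent.Helper47.Marg.CDC2
import Cfsg.Agent.Helper47.Marg.CI2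
import Cfsg.Agent.Helper47.Marg.CT
import Cfsg.Agent.Helper52.Marg.CTel
import Cfsg.Agent.Helper66.Marg.B2
import Cfsg.Agent.Helper66.Marg.B3a
import Cfsg.Agent.Helper66.Marg.M4
import Cfsg.Agent.Helper73.Marg.M1
import Cfsg.Agent.Helper73.Marg.M2
import Cfsg.Agent.Helper88.Marg.B3b
import Cfsg.Agent.Helper88.Marg.B3cd

set_option autoImplicit false

namespace Cfsg.Agent.Helper60.Marg

open MulAction Cfsg.Agent.Helper58

/-! ## Part C: the combinatorial core (no groups) -/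

section comb

variable {Ω : Type*} [DecidableEq Ω] [Fintype Ω]

/-- (CS) rotation of the ternary relation -/
theorem eqv_rot {𝒯 : Finset (Finset Ω)} {m t e : ℕ} (h : CoreHyp 𝒯 m t e)
    (A : Finset Ω) (hA : A.card + 2 = t) (d x y : Ω) (hd : d ∉ A) (hx : x ∉ A) (hy : y ∉ A)
    (hdx : d ≠ x) (hdy : d ≠ y) (hxy : x ≠ y)
    (hE : Eqv 𝒯 (insert d A) x y) : Eqv 𝒯 (insert x A) d y := by
  exact Cfsg.Agent.Helper33.Marg.eqv_rot h A hA d x y hd hx hy hdx hdy hxy hE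

/-- (CSt) the Steiner system -/
theorem exists_stSys {𝒯 : Finset (Finset Ω)} {m t e : ℕ} (h : CoreHyp 𝒯 m t e)
    (Γ : Finset Ω) (hΓ : Γ ∈ 𝒯) : Nonempty (StSys Ω t e Γᶜ) := by
  exact Cfsg.Agent.Helper25.Marg.exists_stSys h Γ hΓ

/-- (CI2) -/
theorem stSys_ineq_two {t e m : ℕ} {Δ : Finset Ω} (S : StSys Ω t e Δ)
    (hn : Fintype.card Ω = 2 * m + 1) (hΔ : Δ.card = m + 1) (ht4 : 4 ≤ t) (htm : t < m)
    (he : 2 ≤ e) : (m + 3 - t) * (e - 1) ≤ m - 1 := by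
  exact Cfsg.Agent.Helper47.Marg.stSys_ineq_two S hn hΔ ht4 htm he

/-- (CT) Tits' inequality, inside `Δ` or (if `Δ` is a single block) in `Ω` -/
theorem stSys_tits {t e m : ℕ} {Δ : Finset Ω} (S : StSys Ω t e Δ)
    (hn : Fintype.card Ω = 2 * m + 1) (hΔ : Δ.card = m + 1) (ht4 : 4 ≤ t) (htm : t < m)
    (he : 2 ≤ e) : (t + 1) * e ≤ m + 1 ∨ (m + 2 = t + e ∧ (t + 1) * e ≤ 2 * m + 1) := by
  exact Cfsg.Agent.Helper47.Marg.stSys_tits S hn hΔ ht4 htm he

/-- (CA) -/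
theorem e_eq_two (m t e : ℕ) (ht4 : 4 ≤ t) (htm : t < m) (he : 2 ≤ e)
    (h2 : (m + 3 - t) * (e - 1) ≤ m - 1)
    (hT : (t + 1) * e ≤ m + 1 ∨ (m + 2 = t + e ∧ (t + 1) * e ≤ 2 * m + 1)) : e = 2 := by
  exact Cfsg.Agent.Helper37.Marg.e_eq_two m t e ht4 htm he h2 hT

/-- (CPar) -/
theorem stSys_even_t {t m : ℕ} {Δ : Finset Ω} (S : StSys Ω t 2 Δ)
    (hn : Fintype.card Ω = 2 * m + 1) (ht1 : 1 ≤ t) (htm : t < m) : Even t := by
  exact Cfsg.Agent.Helper33.Marg.stSys_even_t S hn ht1 htm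

/-- (CDC1) -/
theorem stSys_B_t_eq_zero {t : ℕ} {Δ : Finset Ω} (S : StSys Ω t 2 Δ) (ht1 : 1 ≤ t) :
    S.B t = 0 := by
  exact Cfsg.Agent.Helper37.Marg.stSys_B_t_eq_zero S ht1

/-- (CDC2) double counting of the pairs (`t`-set of type `j`, block through it) -/
theorem stSys_count_eq {t m : ℕ} {Δ : Finset Ω} (S : StSys Ω t 2 Δ)
    (hn : Fintype.card Ω = 2 * m + 1) (hΔ : Δ.card = m + 1) (j : ℕ) (hj : j ≤ t) :
    (t + 1 - j) * S.B j + (j + 1) * S.B (j + 1) = (m + 1).choose j * m.choose (t - j) := by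
  exact Cfsg.Agent.Helper47.Marg.stSys_count_eq S hn hΔ j hj

/-- (CTel) -/
theorem telescope (t : ℕ) (f R : ℕ → ℤ) (hf : f t = 0)
    (h : ∀ j, j < t → ((t : ℤ) + 1 - j) * f j + ((j : ℤ) + 1) * f (j + 1) = R j) :
    ((t + 1).factorial : ℤ) * f 0 =
      ∑ j ∈ Finset.range t, (-1) ^ j * (j.factorial : ℤ) * ((t - j).factorial : ℤ) * R j := by
  exact Cfsg.Agent.Helper52.Marg.telescope t f R hf h

/-- (CBin) -/
theorem alt_sum_neg (m t : ℕ) (ht : Even t) (h2 : 2 ≤ t) (htm : t < m) :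
    ∑ j ∈ Finset.range t, (-1 : ℤ) ^ j * (j.factorial : ℤ) * ((t - j).factorial : ℤ) *
      ((((m + 1).choose j * m.choose (t - j) : ℕ)) : ℤ) < 0 := by
  exact Cfsg.Agent.Helper37.Marg.alt_sum_neg m t ht h2 htm

/-- (CAsm) the combinatorial core -/
theorem core_false {𝒯 : Finset (Finset Ω)} {m t e : ℕ} (h : CoreHyp 𝒯 m t e) : False := by
  -- a member of `𝒯`
  obtain ⟨A, hA⟩ : ∃ A : Finset Ω, A.card = t - 1 := by
    have : t - 1 ≤ (Finset.univ : Finset Ω).card := by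
      rw [Finset.card_univ, h.card_univ]; have := h.htm; omega
    obtain ⟨A, -, hA⟩ := Finset.exists_subset_card_eq this
    exact ⟨A, hA⟩
  have hA1 : A.card + 1 = t := by have := h.ht4; omega
  obtain ⟨x, hx⟩ : ∃ x, x ∉ A := by
    by_contra hcon
    push Not at hcon
    have : A = Finset.univ := Finset.eq_univ_iff_forall.mpr hcon
    rw [this, Finset.card_univ, h.card_univ] at hA
    have := h.htm; omega
  obtain ⟨Γ, hΓ, -⟩ := h.cover A hA1 x hx
  have hΓ𝒯 : Γ ∈ 𝒯 := (Finset.mem_filter.mp hΓ).1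
  obtain ⟨S⟩ := exists_stSys h Γ hΓ𝒯
  have hΔ : (Γᶜ : Finset Ω).card = m + 1 := by
    rw [Finset.card_compl, h.card_univ, h.card_mem Γ hΓ𝒯]; omega
  have he2 : e = 2 := e_eq_two m t e h.ht4 h.htm h.he
    (stSys_ineq_two S h.card_univ hΔ h.ht4 h.htm h.he) (stSys_tits S h.card_univ hΔ h.ht4 h.htm h.he)
  subst he2
  have hev : Even t := stSys_even_t S h.card_univ (by have := h.ht4; omega) h.htm
  have hB := stSys_B_t_eq_zero S (by have := h.ht4; omega)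
  have key := telescope t (fun j => (S.B j : ℤ))
    (fun j => ((((m + 1).choose j * m.choose (t - j) : ℕ)) : ℤ)) (by simp [hB])
    (by
      intro j hj
      have := stSys_count_eq S h.card_univ hΔ j hj.le
      have hcast : ((t + 1 - j : ℕ) : ℤ) = (t : ℤ) + 1 - j := by
        have : j ≤ t + 1 := by omega
        push_cast [Nat.cast_sub this]; ring
      rw [← hcast]
      exact_mod_cast this)
  have hneg := alt_sum_neg m t hev (by have := h.ht4; omega) h.htm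
  rw [← key] at hneg
  have hpos : (0 : ℤ) ≤ ((t + 1).factorial : ℤ) * (S.B 0 : ℤ) := by positivity
  omega

end comb

/-! ## Part M: the group side -/

section grp

variable {G : Type*} [Group G] {Ω : Type*} [MulAction G Ω]

/-- (M1) two Jordan sets meeting in exactly one point give a 3-cycle (commutator) -/
theorem small3_of_inter_singleton {Λ₁ Λ₂ : Set Ω} (h₁ : IsJ G Λ₁) (h₂ : IsJ G Λ₂) (α β γ : Ω)
    (hα : Λ₁ ∩ Λ₂ = {α}) (hβ : β ∈ Λ₁) (hβα : β ≠ α) (hγ : γ ∈ Λ₂) (hγα : γ ≠ α) :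
    ∃ c : G, Small3 Ω c := by
  exact Cfsg.Agent.Helper73.Marg.small3_of_inter_singleton h₁ h₂ α β γ hα hβ hβα hγ hγα

/-- (M2) Jordan sets with 2 or 3 points -/
theorem small_of_ncard_le_three {Γ : Set Ω} (hJ : IsJ G Γ) (h : Γ.ncard = 2 ∨ Γ.ncard = 3) :
    ∃ c : G, Small2 Ω c ∨ Small3 Ω c := by
  exact Cfsg.Agent.Helper73.Marg.small_of_ncard_le_three hJ h

/-- (M3) an `m`-transitive group moves an `m`-set onto a set meeting it in one prescribed point -/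
theorem exists_inter_singleton [Finite Ω] (Γ : Set Ω) (m : ℕ) (hm : Γ.ncard = m)
    (hn : 2 * m ≤ Nat.card Ω + 1) (hmt : IsMultiplyPretransitive G Ω m) (α : Ω) (hα : α ∈ Γ) :
    ∃ g : G, Γ ∩ {z | g • z ∈ Γ} = {α} := by
  exact Cfsg.Agent.Helper33.Marg.exists_inter_singleton Γ m hm hn hmt α hα

/-- (M4a) -/
theorem isJ_ofStabilizer {Γ : Set Ω} (hJ : IsJ G Γ) (a : Ω) (ha : a ∉ Γ) :
    IsJ (stabilizer G a) (Subtype.val ⁻¹' Γ : Set (SubMulAction.ofStabilizer G a)) := by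
  exact Cfsg.Agent.Helper66.Marg.isJ_ofStabilizer hJ a ha

/-- (M4b) -/
theorem ncard_preimage_ofStabilizer (Γ : Set Ω) (a : Ω) (ha : a ∉ Γ) :
    (Subtype.val ⁻¹' Γ : Set (SubMulAction.ofStabilizer G a)).ncard = Γ.ncard := by
  exact Cfsg.Agent.Helper66.Marg.ncard_preimage_ofStabilizer Γ a ha

/-- (M4c) -/
theorem small_lift_ofStabilizer (a : Ω) (g : stabilizer G a)
    (h : Small2 (SubMulAction.ofStabilizer G a) g ∨ Small3 (SubMulAction.ofStabilizer G a) g) :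
    Small2 Ω (g : G) ∨ Small3 Ω (g : G) := by
  exact Cfsg.Agent.Helper66.Marg.small_lift_ofStabilizer a g h

/-- (M6c) -/
theorem succ_trans_of_fixing_two [Finite Ω] (t : ℕ) (ht1 : 1 ≤ t)
    (ht : IsMultiplyPretransitive G Ω t) (A : Set Ω) (hA : A.ncard + 1 = t)
    (h2 : IsMultiplyPretransitive (fixingSubgroup G A) (SubMulAction.ofFixingSubgroup G A) 2) :
    IsMultiplyPretransitive G Ω (t + 1) := by
  exact Cfsg.Agent.Helper25.Marg.succ_trans_of_fixing_two t ht1 ht A hA h2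

variable [Fintype Ω] [DecidableEq Ω]

/-- (B0) the translates have `m` points -/
theorem card_of_mem_translates (Γ : Set Ω) (T : Finset Ω) (hT : T ∈ translates G Γ) :
    T.card = Γ.ncard := by
  exact Cfsg.Agent.Helper47.Marg.card_of_mem_translates Γ T hT

/-- (B1) -/
theorem translates_one (Γ : Set Ω) (t : ℕ) (ht : IsMultiplyPretransitive G Ω t)
    (A : Finset Ω) (hA : A.card + 2 = t) (x x' : Ω) (hx : x ∉ A) (hx' : x' ∉ A) :
    ((TA (translates G Γ) A).filter (fun T => x ∈ T)).card =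
      ((TA (translates G Γ) A).filter (fun T => x' ∈ T)).card := by
  exact Cfsg.Agent.Helper47.Marg.translates_one Γ t ht A hA x x' hx hx'

/-- (B1') -/
theorem translates_two (Γ : Set Ω) (t : ℕ) (ht : IsMultiplyPretransitive G Ω t)
    (A : Finset Ω) (hA : A.card + 2 = t) (x y x' y' : Ω) (hx : x ∉ A) (hy : y ∉ A)
    (hx' : x' ∉ A) (hy' : y' ∉ A) (hxy : x ≠ y) (hxy' : x' ≠ y') :
    ((TA (translates G Γ) A).filter (fun T => x ∈ T ∧ y ∈ T)).card =
      ((TA (translates G Γ) A).filter (fun T => x' ∈ T ∧ y' ∈ T)).card := by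
  exact Cfsg.Agent.Helper47.Marg.translates_two Γ t ht A hA x y x' y' hx hy hx' hy' hxy hxy'

/-- (B2) -/
theorem translates_cover (Γ : Set Ω) (m t : ℕ) (hm : Γ.ncard = m) (hm1 : 1 ≤ m)
    (hn : Fintype.card Ω = 2 * m + 1) (htm : t < m)
    (ht : IsMultiplyPretransitive G Ω t) (A : Finset Ω) (hA : A.card + 1 = t) (x : Ω)
    (hx : x ∉ A) : ∃ T ∈ TA (translates G Γ) A, x ∈ T := by
  exact Cfsg.Agent.Helper66.Marg.translates_cover Γ m t hm hm1 hn htm ht A hA x hx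

/-- (B3a) the classes all have the same size -/
theorem translates_cls_const (Γ : Set Ω) (t : ℕ) (ht : IsMultiplyPretransitive G Ω t)
    (A A' : Finset Ω) (hA : A.card + 1 = t) (hA' : A'.card + 1 = t) (x x' : Ω) (hx : x ∉ A)
    (hx' : x' ∉ A') :
    {y : Ω | y ∉ A ∧ Eqv (translates G Γ) A x y}.ncard =
      {y : Ω | y ∉ A' ∧ Eqv (translates G Γ) A' x' y}.ncard := by
  exact Cfsg.Agent.Helper66.Marg.translates_cls_const Γ t ht A A' hA hA' x x' hx hx'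

/-- (B3b) if the classes (for one `A ⊆ Γᶜ`) are singletons, the fixator of `A` is primitive on the rest -/
theorem isPreprimitive_fixing_of_cls_one {Γ : Set Ω} (hJ : IsJ G Γ) (m t : ℕ)
    (hm : Γ.ncard = m) (hn : Fintype.card Ω = 2 * m + 1) (ht4 : 4 ≤ t) (htm : t < m)
    (ht : IsMultiplyPretransitive G Ω t) (A : Finset Ω) (hA : A.card + 1 = t)
    (hAΓ : ∀ a ∈ A, a ∉ Γ)
    (h1 : ∀ x y : Ω, x ∉ A → y ∉ A → Eqv (translates G Γ) A x y → x = y) :
    IsPreprimitive (fixingSubgroup G (A : Set Ω)) (SubMulAction.ofFixingSubgroup G (A : Set Ω)) := by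
  exact Cfsg.Agent.Helper88.Marg.isPreprimitive_fixing_of_cls_one hJ m t hm hn ht4 htm ht A hA hAΓ h1

/-- (B3c) the fixator of `A ⊆ Γᶜ` has the Jordan set `Γ` -/
theorem isJ_ofFixingSubgroup {Γ : Set Ω} (hJ : IsJ G Γ) (A : Set Ω) (hAΓ : ∀ a ∈ A, a ∉ Γ) :
    IsJ (fixingSubgroup G A) (Subtype.val ⁻¹' Γ : Set (SubMulAction.ofFixingSubgroup G A)) := by
  exact Cfsg.Agent.Helper88.Marg.isJ_ofFixingSubgroup hJ A hAΓ

/-- (B3d) -/
theorem ncard_preimage_ofFixingSubgroup (Γ A : Set Ω) (hAΓ : ∀ a ∈ A, a ∉ Γ) :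
    (Subtype.val ⁻¹' Γ : Set (SubMulAction.ofFixingSubgroup G A)).ncard = Γ.ncard := by
  exact Cfsg.Agent.Helper88.Marg.ncard_preimage_ofFixingSubgroup Γ A hAΓ

end grp

end Cfsg.Agent.Helper60.Marg
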