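import Mathlib
import Cfsg.Agent.Helper58.Marggraf
import Cfsg.Agent.Helper60.Marg.Defs
import Cfsg.Agent.Helper60.Marg.Skel

set_option autoImplicit false

namespace Cfsg.Agent.Helper60.Marg

open MulAction Cfsg.Agent.Helper58

universe u v

section grp

variable {G : Type*} [Group G] {Ω : Type*} [MulAction G Ω]

/-- helper58's S3707 in lemma form -/
theorem three_trans [Finite G] [Finite Ω] (hprim : IsPreprimitive G Ω) {Γ : Set Ω}
    (hJ : IsJ G Γ) (h1 : 1 < Γ.ncard) (h2 : 2 * Γ.ncard ≤ Nat.card Ω) :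
    IsMultiplyPretransitive G Ω 3 := by
  classical
  have h2t := two_trans_of_IsJ hprim hJ h1 (by omega)
  set Γf : Finset Ω := (Set.toFinite Γ).toFinset with hΓf
  have hcoe : (Γf : Set Ω) = Γ := Set.Finite.coe_toFinset _
  have hcard : Γf.card = Γ.ncard := by
    rw [← hcoe, Set.ncard_coe_finset]
  obtain ⟨Λ, hΛJ, hΛ⟩ := exists_J_compl_two h2t Γf (by rw [hcoe]; exact hJ)
    (by rw [hcard]; omega) (by rw [hcard]; exact h2)
  exact three_trans_of_J h2t Λ hΛJ hΛ

/-- the inductive step: `t`-transitive, `4 ≤ t < m` implies `(t+1)`-transitive -/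
theorem succ_trans [Fintype Ω] [DecidableEq Ω] {Γ : Set Ω} (hJ : IsJ G Γ) (m t : ℕ)
    (hm : Γ.ncard = m) (hn : Fintype.card Ω = 2 * m + 1) (ht4 : 4 ≤ t) (htm : t < m)
    (ht : IsMultiplyPretransitive G Ω t) : IsMultiplyPretransitive G Ω (t + 1) := by
  by_contra hnt
  -- a `(t-1)`-set `A` inside the complement of `Γ`
  set Γf : Finset Ω := (Set.toFinite Γ).toFinset with hΓf
  have hcoe : (Γf : Set Ω) = Γ := Set.Finite.coe_toFinset _
  have hΓfcard : Γf.card = m := by rw [← hm, ← hcoe, Set.ncard_coe_finset]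
  have hcompl : (Γfᶜ).card = m + 1 := by
    rw [Finset.card_compl, hn, hΓfcard]; omega
  obtain ⟨A, hAsub, hAcard⟩ := Finset.exists_subset_card_eq (s := Γfᶜ) (n := t - 1) (by omega)
  have hA1 : A.card + 1 = t := by omega
  have hAΓ : ∀ a ∈ A, a ∉ Γ := by
    intro a ha haΓ
    have := hAsub ha
    rw [Finset.mem_compl] at this
    apply this
    rw [← Finset.mem_coe, hcoe]
    exact haΓ
  obtain ⟨x₀, hx₀⟩ : ∃ x, x ∉ A := by
    by_contra hcon
    push Not at hcon
    have : A = Finset.univ := Finset.eq_univ_iff_forall.mpr hcon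
    rw [this, Finset.card_univ, hn] at hAcard
    omega
  set 𝒯 := translates G Γ with h𝒯
  set e := {y : Ω | y ∉ A ∧ Eqv 𝒯 A x₀ y}.ncard with he
  have hcls : ∀ A' : Finset Ω, A'.card + 1 = t → ∀ x : Ω, x ∉ A' →
      {y : Ω | y ∉ A' ∧ Eqv 𝒯 A' x y}.ncard = e := by
    intro A' hA' x hx
    exact translates_cls_const Γ t ht A' A hA' hA1 x x₀ hx hx₀
  have hrefl : ∀ (A' : Finset Ω) (x : Ω), Eqv 𝒯 A' x x := fun A' x T _ => Iff.rfl
  have he1 : 1 ≤ e := by
    rw [he, Nat.one_le_iff_ne_zero, Ne, Set.ncard_eq_zero (Set.toFinite _)]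
    exact Set.Nonempty.ne_empty ⟨x₀, hx₀, hrefl A x₀⟩
  have he2 : 2 ≤ e := by
    by_contra hlt
    have he1' : e = 1 := by omega
    apply hnt
    -- all classes are singletons
    have h1 : ∀ x y : Ω, x ∉ A → y ∉ A → Eqv 𝒯 A x y → x = y := by
      intro x y hx hy hxy
      have hc := hcls A hA1 x hx
      rw [he1', Set.ncard_eq_one] at hc
      obtain ⟨z, hz⟩ := hc
      have hxz : x ∈ ({z} : Set Ω) := by rw [← hz]; exact ⟨hx, hrefl A x⟩
      have hyz : y ∈ ({z} : Set Ω) := by rw [← hz]; exact ⟨hy, hxy⟩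
      rw [Set.mem_singleton_iff] at hxz hyz
      rw [hxz, hyz]
    have hprim := isPreprimitive_fixing_of_cls_one hJ m t hm hn ht4 htm ht A hA1 hAΓ h1
    have hJ' := isJ_ofFixingSubgroup hJ (A : Set Ω) (by simpa using hAΓ)
    have hnc := ncard_preimage_ofFixingSubgroup (G := G) Γ (A : Set Ω) (by simpa using hAΓ)
    have hcardΩ' : Nat.card (SubMulAction.ofFixingSubgroup G (A : Set Ω)) = 2 * m + 1 - (t - 1) := by
      have h1 : Nat.card (SubMulAction.ofFixingSubgroup G (A : Set Ω)) =
          ((A : Set Ω)ᶜ).ncard := by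
        rw [← Nat.card_coe_set_eq]
        rfl
      have h2 := Set.ncard_add_ncard_compl (A : Set Ω)
      rw [Nat.card_eq_fintype_card, hn, Set.ncard_coe_finset, hAcard] at h2
      rw [h1]
      omega
    have h2t := two_trans_of_IsJ hprim hJ' (by rw [hnc, hm]; omega) (by rw [hnc, hm, hcardΩ']; omega)
    have h2t' : IsMultiplyPretransitive (fixingSubgroup G (A : Set Ω))
        (SubMulAction.ofFixingSubgroup G (A : Set Ω)) 2 := by
      rw [is_two_pretransitive_iff]
      intro a b c d hab hcd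
      exact h2t a b c d hab hcd
    exact succ_trans_of_fixing_two t (by omega) ht (A : Set Ω)
      (by rw [Set.ncard_coe_finset]; exact hA1) h2t'
  have hcore : CoreHyp 𝒯 m t e :=
    { card_univ := hn
      ht4 := ht4
      htm := htm
      he := he2
      card_mem := fun T hT => by rw [card_of_mem_translates Γ T hT, hm]
      one := fun A' hA' x x' hx hx' => translates_one Γ t ht A' hA' x x' hx hx'
      two := fun A' hA' x y x' y' hx hy hx' hy' hxy hxy' =>
        translates_two Γ t ht A' hA' x y x' y' hx hy hx' hy' hxy hxy'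
      cover := fun A' hA' x hx => translates_cover Γ m t hm (by omega) hn htm ht A' hA' x hx
      cls := hcls }
  exact core_false hcore

end grp

/-- Marggraf's theorem, primitive case, in instance-free form -/
theorem marggraf_prim_aux (n : ℕ) : ∀ {G : Type u} {Ω : Type v} [Group G] [Finite G]
    [MulAction G Ω] [Finite Ω], Nat.card Ω = n → IsPreprimitive G Ω → ∀ Γ : Set Ω, IsJ G Γ →
    1 < Γ.ncard → 2 * Γ.ncard < Nat.card Ω → ∃ g : G, Small2 Ω g ∨ Small3 Ω g := by
  induction n using Nat.strong_induction_on with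
  | _ n ih =>
  intro G Ω _ _ _ _ hcard hprim Γ hJ h1 h2
  classical
  obtain ⟨m, hm⟩ : ∃ m, Γ.ncard = m := ⟨_, rfl⟩
  rw [hm] at h1 h2
  by_cases hm3 : m ≤ 3
  · exact small_of_ncard_le_three hJ (by omega)
  have hpt : IsPretransitive G Ω := hprim.toIsPretransitive
  have h3 : IsMultiplyPretransitive G Ω 3 := three_trans hprim hJ (by omega) (by omega)
  -- a point outside `Γ`
  obtain ⟨a, ha⟩ : ∃ a, a ∉ Γ := by
    by_contra hcon
    push Not at hcon
    have : Γ = Set.univ := Set.eq_univ_of_forall hcon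
    rw [this, Set.ncard_univ] at hm
    omega
  have hcard' : Nat.card (SubMulAction.ofStabilizer G a) + 1 = Nat.card Ω :=
    SubMulAction.nat_card_ofStabilizer_add_one_eq G a
  have h2' : IsMultiplyPretransitive (stabilizer G a) (SubMulAction.ofStabilizer G a) 2 :=
    (SubMulAction.ofStabilizer.isMultiplyPretransitive (G := G) (a := a) (n := 2)).mp h3
  have hprim' : IsPreprimitive (stabilizer G a) (SubMulAction.ofStabilizer G a) :=
    isPreprimitive_of_is_two_pretransitive h2'
  have hJ' := isJ_ofStabilizer hJ a ha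
  have hnc := ncard_preimage_ofStabilizer (G := G) Γ a ha
  by_cases hbig : 2 * m + 2 ≤ n
  · -- induction
    obtain ⟨g, hg⟩ := ih (n - 1) (by omega) (G := stabilizer G a)
      (Ω := SubMulAction.ofStabilizer G a) (by omega) hprim' _ hJ' (by rw [hnc, hm]; omega)
      (by rw [hnc, hm]; omega)
    exact ⟨(g : G), small_lift_ofStabilizer a g hg⟩
  · -- `n = 2m + 1`
    have hn : Nat.card Ω = 2 * m + 1 := by omega
    have h3' : IsMultiplyPretransitive (stabilizer G a) (SubMulAction.ofStabilizer G a) 3 :=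
      three_trans hprim' hJ' (by rw [hnc, hm]; omega) (by rw [hnc, hm]; omega)
    have h4 : IsMultiplyPretransitive G Ω 4 :=
      (SubMulAction.ofStabilizer.isMultiplyPretransitive (G := G) (a := a) (n := 3)).mpr h3'
    let _ : Fintype Ω := Fintype.ofFinite Ω
    have hnf : Fintype.card Ω = 2 * m + 1 := by rw [← Nat.card_eq_fintype_card]; exact hn
    have hall : ∀ k, 4 ≤ k → k ≤ m → IsMultiplyPretransitive G Ω k := by
      intro k hk
      induction k, hk using Nat.le_induction with
      | base => intro _; exact h4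
      | succ k hk ihk =>
        intro hkm
        exact succ_trans hJ m k hm hnf hk (by omega) (ihk (by omega))
    have hmt : IsMultiplyPretransitive G Ω m := hall m (by omega) le_rfl
    obtain ⟨α, hα⟩ : ∃ α, α ∈ Γ := by
      have : Γ.Nonempty := by
        rw [← Set.ncard_pos (Set.toFinite Γ)]; omega
      exact this
    obtain ⟨g, hg⟩ := exists_inter_singleton Γ m hm (by omega) hmt α hα
    -- another point of `Γ`
    obtain ⟨β, hβ, hβα⟩ : ∃ β ∈ Γ, β ≠ α := by
      by_contra hcon
      push Not at hcon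
      have : Γ ⊆ {α} := fun x hx => hcon x hx
      have := Set.ncard_le_ncard this (Set.toFinite _)
      rw [Set.ncard_singleton, hm] at this
      omega
    -- another point of the translate
    have hαg : g • α ∈ Γ := by
      have : α ∈ Γ ∩ {z | g • z ∈ Γ} := by rw [hg]; rfl
      exact this.2
    obtain ⟨β', hβ', hβ'α⟩ : ∃ β' ∈ Γ, β' ≠ g • α := by
      by_contra hcon
      push Not at hcon
      have : Γ ⊆ {g • α} := fun x hx => hcon x hx
      have := Set.ncard_le_ncard this (Set.toFinite _)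
      rw [Set.ncard_singleton, hm] at this
      omega
    obtain ⟨c, hc⟩ := small3_of_inter_singleton hJ (hJ.preimage g) α β (g⁻¹ • β') hg hβ hβα
      (by show g • g⁻¹ • β' ∈ Γ; rw [smul_inv_smul]; exact hβ')
      (by
        intro h
        apply hβ'α
        rw [← h, smul_inv_smul])
    exact ⟨c, Or.inr hc⟩

theorem marggraf_prim {G : Type u} {Ω : Type v} [Group G] [Finite G] [MulAction G Ω] [Finite Ω]
    (hprim : IsPreprimitive G Ω) (Γ : Set Ω) (hJ : IsJ G Γ) (h1 : 1 < Γ.ncard)
    (h2 : 2 * Γ.ncard < Nat.card Ω) : ∃ g : G, Small2 Ω g ∨ Small3 Ω g :=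
  marggraf_prim_aux _ rfl hprim Γ hJ h1 h2

end Cfsg.Agent.Helper60.Marg
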