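import Mathlib
import Cfsg.Agent.Helper58.Marggraf
import Cfsg.Agent.Helper60.Marg.Defs
import Cfsg.Agent.Helper32.Marg.Q2
import Cfsg.Agent.Helper41.Marg.F1
import Cfsg.Agent.Helper41.Marg.Q1
import Cfsg.Agent.Helper41.Marg.Q3
import Cfsg.Agent.Helper55.Marg.Q4c
import Cfsg.Agent.Helper55.Marg.Q4d
import Cfsg.Agent.Helper55.Marg.Q5p
import Cfsg.Agent.Helper66.Marg.F0
import Cfsg.Agent.Helper66.Marg.Q06
import Cfsg.Agent.Helper69.Marg.Q5

set_option autoImplicit false

namespace Cfsg.Agent.Helper60.Marg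

open MulAction Cfsg.Agent.Helper58
open scoped Pointwise

/-! ## Part Q: from quasiprimitive to primitive; Part F: the final step -/

section qp

variable {G : Type*} [Group G] {Ω : Type*} [MulAction G Ω]

/-- (F0) the hypothesis of S3620 in `IsJ` form -/
theorem isJ_of_isPretransitive_fixing (Γ : Set Ω)
    (hJ : IsPretransitive (fixingSubgroup G Γᶜ) (SubMulAction.ofFixingSubgroup G Γᶜ)) :
    IsJ G Γ := by
  exact Cfsg.Agent.Helper66.Marg.isJ_of_isPretransitive_fixing Γ hJ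

/-- (F1) Jordan (Mathlib): a primitive group containing a transposition or a 3-cycle induces all
even permutations -/
theorem exists_toPerm_eq_of_small [Fintype Ω] [DecidableEq Ω] (hprim : IsPreprimitive G Ω)
    (g : G) (hg : Small2 Ω g ∨ Small3 Ω g) :
    ∀ σ : Equiv.Perm Ω, Equiv.Perm.sign σ = 1 →
      ∃ x : G, (MulAction.toPerm x : Equiv.Perm Ω) = σ := by
  exact Cfsg.Agent.Helper41.Marg.exists_toPerm_eq_of_small hprim g hg

/-- (Q0) a quasiprimitive group with a Jordan set of more than one point is transitive -/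
theorem qp_isPretransitive
    (hqp : ∀ N : Subgroup G, N.Normal → N ≠ ⊥ → IsPretransitive N Ω)
    {Γ : Set Ω} (hJ : IsJ G Γ) (h1 : 1 < Γ.ncard) : IsPretransitive G Ω := by
  exact Cfsg.Agent.Helper66.Marg.qp_isPretransitive hqp hJ h1

/-- (Q6) the elements supported in a Jordan set `Γ` are at least `|Γ|` in number -/
theorem ncard_le_card_fixingSubgroup [Finite G] [Finite Ω] {Γ : Set Ω} (hJ : IsJ G Γ) :
    Γ.ncard ≤ Nat.card (fixingSubgroup G Γᶜ) := by
  exact Cfsg.Agent.Helper66.Marg.ncard_le_card_fixingSubgroup hJ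

/-- (Q1) the translates of a nonempty block: cover, disjointness, size -/
theorem orbit_block_facts [Finite Ω] [IsPretransitive G Ω] {B : Set Ω} (hB : IsBlock G B)
    (hBne : B.Nonempty) :
    (∀ x : Ω, ∃ C : orbit G B, x ∈ (C : Set Ω)) ∧
    (∀ C D : orbit G B, ∀ x : Ω, x ∈ (C : Set Ω) → x ∈ (D : Set Ω) → C = D) ∧
    (∀ C : orbit G B, (C : Set Ω).ncard = B.ncard) ∧
    Nat.card (orbit G B) * B.ncard = Nat.card Ω := by
  exact Cfsg.Agent.Helper41.Marg.orbit_block_facts hB hBne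

/-- (Q2) quasiprimitivity passes to the set of translates of a block -/
theorem qp_orbit (hqp : ∀ N : Subgroup G, N.Normal → N ≠ ⊥ → IsPretransitive N Ω)
    [IsPretransitive G Ω] {B : Set Ω} (hB : IsBlock G B) (hBne : B.Nonempty) :
    ∀ N : Subgroup G, N.Normal → N ≠ ⊥ → IsPretransitive N (orbit G B) := by
  exact Cfsg.Agent.Helper32.Marg.qp_orbit hqp hB hBne

/-- (Q3) a quasiprimitive group acts faithfully on the translates of a proper block -/
theorem faithful_orbit (hqp : ∀ N : Subgroup G, N.Normal → N ≠ ⊥ → IsPretransitive N Ω)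
    [IsPretransitive G Ω] {B : Set Ω} (hB : IsBlock G B) (hBne : B.Nonempty)
    (hBuniv : B ≠ Set.univ) :
    ∀ g : G, (∀ C : orbit G B, g • C = C) → g = 1 := by
  exact Cfsg.Agent.Helper41.Marg.faithful_orbit hqp hB hBne hBuniv

/-- (Q4a) no translate of the block meets both `Γ` and its complement -/
theorem block_dichotomy [IsPretransitive G Ω] {B : Set Ω} (hB : IsBlock G B) (hBne : B.Nonempty)
    (hfaith : ∀ g : G, (∀ C : orbit G B, g • C = C) → g = 1)
    {Γ : Set Ω} (hJ : IsJ G Γ) (h1 : 1 < Γ.ncard) :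
    ∀ C : orbit G B, (C : Set Ω) ⊆ Γ ∨ (C : Set Ω) ⊆ Γᶜ := by
  exact Cfsg.Agent.Helper32.Marg.block_dichotomy hB hBne hfaith hJ h1

/-- (Q4b) the blocks inside `Γ` form a Jordan set for the action on the translates -/
theorem isJ_orbit [IsPretransitive G Ω] {B : Set Ω} (hB : IsBlock G B) (hBne : B.Nonempty)
    {Γ : Set Ω} (hJ : IsJ G Γ)
    (hdich : ∀ C : orbit G B, (C : Set Ω) ⊆ Γ ∨ (C : Set Ω) ⊆ Γᶜ) :
    IsJ G {C : orbit G B | (C : Set Ω) ⊆ Γ} := by
  exact Cfsg.Agent.Helper32.Marg.isJ_orbit hB hBne hJ hdich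

/-- (Q4c) `Γ` is the union of the blocks inside it -/
theorem ncard_orbit_mul [Finite Ω] [IsPretransitive G Ω] {B : Set Ω} (hB : IsBlock G B)
    (hBne : B.Nonempty) {Γ : Set Ω}
    (hdich : ∀ C : orbit G B, (C : Set Ω) ⊆ Γ ∨ (C : Set Ω) ⊆ Γᶜ) :
    {C : orbit G B | (C : Set Ω) ⊆ Γ}.ncard * B.ncard = Γ.ncard := by
  exact Cfsg.Agent.Helper55.Marg.ncard_orbit_mul hB hBne hdich

/-- (Q4d) at least two blocks lie inside `Γ` -/
theorem one_lt_ncard_orbit [Finite Ω] [IsPretransitive G Ω] {B : Set Ω} (hB : IsBlock G B)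
    (hBne : B.Nonempty)
    (hfaith : ∀ g : G, (∀ C : orbit G B, g • C = C) → g = 1)
    {Γ : Set Ω} (hJ : IsJ G Γ) (h1 : 1 < Γ.ncard)
    (hdich : ∀ C : orbit G B, (C : Set Ω) ⊆ Γ ∨ (C : Set Ω) ⊆ Γᶜ) :
    1 < {C : orbit G B | (C : Set Ω) ⊆ Γ}.ncard := by
  exact Cfsg.Agent.Helper55.Marg.one_lt_ncard_orbit hB hBne hfaith hJ h1 hdich

/-- (Q5') exactly two blocks inside `Γ` is impossible for a nontrivial block -/
theorem ncard_orbit_ne_two [Finite Ω] [IsPretransitive G Ω] {B : Set Ω} (hB : IsBlock G B)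
    (hBnt : B.Nontrivial)
    (hfaith : ∀ g : G, (∀ C : orbit G B, g • C = C) → g = 1)
    {Γ : Set Ω} (hJ : IsJ G Γ)
    (hdich : ∀ C : orbit G B, (C : Set Ω) ⊆ Γ ∨ (C : Set Ω) ⊆ Γᶜ) :
    {C : orbit G B | (C : Set Ω) ⊆ Γ}.ncard ≠ 2 := by
  exact Cfsg.Agent.Helper55.Marg.ncard_orbit_ne_two hB hBnt hfaith hJ hdich

/-- (Q5) the contradiction: `G` induces at least the alternating group on `N ≥ 6` translates of a
nontrivial block, but a subgroup with at least 3 elements fixes one of the translates pointwise -/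
theorem qp_contra [Finite G] [Finite Ω] [IsPretransitive G Ω]
    (hqp : ∀ N : Subgroup G, N.Normal → N ≠ ⊥ → IsPretransitive N Ω)
    {B : Set Ω} (hB : IsBlock G B) (hBnt : B.Nontrivial)
    [Fintype (orbit G B)] [DecidableEq (orbit G B)]
    (hfaith : ∀ g : G, (∀ C : orbit G B, g • C = C) → g = 1)
    (halt : ∀ σ : Equiv.Perm (orbit G B), Equiv.Perm.sign σ = 1 →
      ∃ x : G, (MulAction.toPerm x : Equiv.Perm (orbit G B)) = σ)
    (h6 : 6 ≤ Nat.card (orbit G B))
    (B₀ : orbit G B) (H : Subgroup G) (hH : ∀ h ∈ H, ∀ x ∈ (B₀ : Set Ω), h • x = x)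
    (hcard : 3 ≤ Nat.card H) : False := by
  exact Cfsg.Agent.Helper69.Marg.qp_contra hqp hB hBnt hfaith halt h6 B₀ H hH hcard

end qp

end Cfsg.Agent.Helper60.Marg
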