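import Mathlib
import Cfsg.Agent.Helper58.Marggraf
import Cfsg.Agent.Helper60.Marg.Defs
import Cfsg.Agent.Helper60.Marg.Asm
import Cfsg.Agent.Helper60.Marg.QSkel

set_option autoImplicit false

namespace Cfsg.Agent.Helper60.Marg

open MulAction Cfsg.Agent.Helper58
open scoped Pointwise

universe u v

/-- a finite quasiprimitive faithful group with a small Jordan set is primitive -/
theorem qp_prim_aux {G : Type u} [Group G] [Finite G] (n : ℕ) :
    ∀ {Ω : Type v} [MulAction G Ω] [Finite Ω], Nat.card Ω = n →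
    (∀ N : Subgroup G, N.Normal → N ≠ ⊥ → IsPretransitive N Ω) →
    ∀ Γ : Set Ω, IsJ G Γ → 1 < Γ.ncard → 2 * Γ.ncard < Nat.card Ω → IsPreprimitive G Ω := by
  induction n using Nat.strong_induction_on with
  | _ n ih =>
  intro Ω _ _ hcard hqp Γ hJ h1 h2
  classical
  have hpt : IsPretransitive G Ω := qp_isPretransitive hqp hJ h1
  by_contra hnp
  -- a nontrivial block
  obtain ⟨B, hB, hBnt, hBuniv⟩ : ∃ B : Set Ω, IsBlock G B ∧ B.Nontrivial ∧ B ≠ Set.univ := by
    by_contra hcon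
    push Not at hcon
    apply hnp
    refine ⟨fun {B} hB => ?_⟩
    by_cases hs : B.Subsingleton
    · exact Or.inl hs
    · right
      rw [Set.not_subsingleton_iff] at hs
      by_contra hne
      exact hne (hcon B hB hs)
  have hBne : B.Nonempty := hBnt.nonempty
  obtain ⟨hcov, hdisj, hsize, hNb⟩ := orbit_block_facts hB hBne
  have hfaith := faithful_orbit hqp hB hBne hBuniv
  have hqp' := qp_orbit hqp hB hBne
  have hdich := block_dichotomy hB hBne hfaith hJ h1
  have hJ' := isJ_orbit hB hBne hJ hdich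
  have hrb := ncard_orbit_mul hB hBne hdich
  have hr1 := one_lt_ncard_orbit hB hBne hfaith hJ h1 hdich
  have hr2 := ncard_orbit_ne_two hB hBnt hfaith hJ hdich
  set Γ' : Set (orbit G B) := {C : orbit G B | (C : Set Ω) ⊆ Γ} with hΓ'
  obtain ⟨r, hr⟩ : ∃ r, Γ'.ncard = r := ⟨_, rfl⟩
  obtain ⟨b, hb⟩ : ∃ b, B.ncard = b := ⟨_, rfl⟩
  obtain ⟨N, hN⟩ : ∃ N, Nat.card (orbit G B) = N := ⟨_, rfl⟩
  obtain ⟨m, hm⟩ : ∃ m, Γ.ncard = m := ⟨_, rfl⟩
  rw [hr] at hr1 hr2
  rw [hr, hb, hm] at hrb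
  rw [hN, hb, hcard] at hNb
  rw [hm, hcard] at h2
  have hb2 : 2 ≤ b := by
    rw [← hb]
    exact Set.one_lt_ncard_iff_nontrivial.mpr hBnt
  have hBfin : Finite (orbit G B) := inferInstance
  -- arithmetic
  have h2r : 2 * r < N := by
    have h : (2 * r) * b < N * b := by
      calc (2 * r) * b = 2 * (r * b) := by ring
        _ = 2 * m := by rw [hrb]
        _ < n := h2
        _ = N * b := hNb.symm
    exact Nat.lt_of_mul_lt_mul_right h
  have hNn : N < n := by
    rw [← hNb]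
    have hNpos : 0 < N := by omega
    nlinarith
  have hprim' : IsPreprimitive G (orbit G B) :=
    ih N hNn hN hqp' Γ' hJ' (by rw [hr]; exact hr1) (by rw [hr, hN]; exact h2r)
  obtain ⟨g, hg⟩ := marggraf_prim hprim' Γ' hJ' (by rw [hr]; exact hr1)
    (by rw [hr, hN]; exact h2r)
  let _ : Fintype (orbit G B) := Fintype.ofFinite _
  have halt := exists_toPerm_eq_of_small hprim' g hg
  -- a block outside `Γ`
  obtain ⟨B₀, hB₀⟩ : ∃ B₀ : orbit G B, (B₀ : Set Ω) ⊆ Γᶜ := by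
    by_contra hcon
    push Not at hcon
    have hall : Γ' = Set.univ := by
      apply Set.eq_univ_of_forall
      intro C
      rcases hdich C with h | h
      · exact h
      · exact absurd h (hcon C)
    rw [hall, Set.ncard_univ, hN] at hr
    omega
  have hHcard := ncard_le_card_fixingSubgroup (G := G) hJ
  have hm4 : 4 ≤ m := by
    rw [← hrb]
    nlinarith
  refine qp_contra hqp hB hBnt hfaith halt (by rw [hN]; omega) B₀ (fixingSubgroup G Γᶜ) ?_
    (by rw [hm] at hHcard; omega)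
  intro h hh x hx
  exact (mem_fixingSubgroup_iff G).mp hh x (hB₀ hx)

theorem qp_prim {G : Type u} [Group G] [Finite G] {Ω : Type v} [MulAction G Ω] [Finite Ω]
    (hqp : ∀ N : Subgroup G, N.Normal → N ≠ ⊥ → IsPretransitive N Ω)
    (Γ : Set Ω) (hJ : IsJ G Γ) (h1 : 1 < Γ.ncard) (h2 : 2 * Γ.ncard < Nat.card Ω) :
    IsPreprimitive G Ω :=
  qp_prim_aux _ rfl hqp Γ hJ h1 h2

/-- S3620 -/
theorem marggraf_final {G Ω : Type*} [Group G] [Finite G] [MulAction G Ω] [FaithfulSMul G Ω]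
    [Fintype Ω] [DecidableEq Ω]
    (hqp : ∀ N : Subgroup G, N.Normal → N ≠ ⊥ → MulAction.IsPretransitive ↥N Ω)
    (Γ : Set Ω) (hΓ1 : 1 < Γ.ncard) (hΓ2 : 2 * Γ.ncard < Fintype.card Ω)
    (hJ : MulAction.IsPretransitive ↥(fixingSubgroup G Γᶜ)
      ↥(SubMulAction.ofFixingSubgroup G Γᶜ)) :
    ∀ σ : Equiv.Perm Ω, Equiv.Perm.sign σ = 1 →
      ∃ x : G, (MulAction.toPerm x : Equiv.Perm Ω) = σ := by
  have hJ' := isJ_of_isPretransitive_fixing Γ hJ
  have h2 : 2 * Γ.ncard < Nat.card Ω := by rw [Nat.card_eq_fintype_card]; exact hΓ2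
  have hprim := qp_prim hqp Γ hJ' hΓ1 h2
  obtain ⟨g, hg⟩ := marggraf_prim hprim Γ hJ' hΓ1 h2
  exact exists_toPerm_eq_of_small hprim g hg

end Cfsg.Agent.Helper60.Marg
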